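import Cfsg.Agent.Lib.FischerOut24.Pairs
import Cfsg.Agent.Lib.FischerUnique24.Chart23

/-!
An automorphism of the subgroup of index two moves the transpositions, respecting conjugation.
-/

set_option autoImplicit false
set_option linter.unusedSectionVars false
set_option linter.style.haveILetI false
set_option maxRecDepth 100000

namespace Cfsg.Agent.FischerOut24

open Cfsg.Agent.Fischer
open Cfsg.Agent.Fischer.Factor
open Cfsg.Agent.FischerUnique24 (Ctx Com)
open Relation (ReflTransGen)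

universe u v

section Generic

variable {H : Type u} [Group H]

/-- Propagation along commuting members when the centraliser of one of them is maximal. -/
theorem spread {W : Set H} {z k : H} (hW : ∀ g : H, ∀ w ∈ W, g * w * g⁻¹ ∈ W)
    (htr : ∀ w ∈ W, ∃ g, g * z * g⁻¹ = w) (hz : z ∈ W) (hk : k ∈ W) (hne : k ≠ z) (hc : Commute z k)
    (hmax : ∀ M : Subgroup H, Subgroup.centralizer ({z} : Set H) ≤ M →
      M = Subgroup.centralizer ({z} : Set H) ∨ M = ⊤)
    {P : H → Prop} (h0 : P z) (hstep : ∀ u ∈ W, ∀ v ∈ W, Commute u v → P u → P v) : ∀ w ∈ W, P w := by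
  set R : H → H → Prop := fun u v => u ∈ W ∧ v ∈ W ∧ Commute u v with hR
  have hsymm : ∀ {u v : H}, ReflTransGen R u v → ReflTransGen R v u := fun h =>
    by induction h with
    | refl => exact ReflTransGen.refl
    | tail _ hb ih => exact (ReflTransGen.single (show R _ _ from ⟨hb.2.1, hb.1, hb.2.2.symm⟩)).trans ih
  have heq : ∀ (g : H) {u v : H}, ReflTransGen R u v → ReflTransGen R (g * u * g⁻¹) (g * v * g⁻¹) := fun g u v h =>
    ReflTransGen.lift (fun x => g * x * g⁻¹)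
      (fun p q hpq => ⟨hW g p hpq.1, hW g q hpq.2.1, (commute_conj_iff g p q).2 hpq.2.2⟩) _ _ h
  let M : Subgroup H :=
    { carrier := {g | ReflTransGen R z (g * z * g⁻¹)}
      one_mem' := by simp only [Set.mem_setOf_eq, one_mul, inv_one, mul_one]; exact ReflTransGen.refl
      mul_mem' := fun {g h} hg hh => by
        have := heq g hh
        simp only [Set.mem_setOf_eq] at hg ⊢
        rw [show g * h * z * (g * h)⁻¹ = g * (h * z * h⁻¹) * g⁻¹ by group]
        exact hg.trans this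
      inv_mem' := fun {g} hg => by
        have := heq g⁻¹ (hsymm hg)
        rw [show g⁻¹ * (g * z * g⁻¹) * g⁻¹⁻¹ = z by group] at this
        exact this }
  obtain ⟨g, hg⟩ := htr k hk
  have hgM : g ∈ M := by
    show ReflTransGen R z (g * z * g⁻¹)
    rw [hg]
    exact ReflTransGen.single ⟨hz, hk, hc⟩
  have hle : Subgroup.centralizer ({z} : Set H) ≤ M := fun x hx => by
    show ReflTransGen R z (x * z * x⁻¹)
    rw [show x * z * x⁻¹ = z from mul_inv_eq_iff_eq_mul.2 (Subgroup.mem_centralizer_singleton_iff.1 hx)]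
  rcases hmax M hle with h | h
  · exfalso
    refine hne ?_
    rw [← hg]
    exact mul_inv_eq_iff_eq_mul.2 (Subgroup.mem_centralizer_singleton_iff.1 (h ▸ hgM))
  · intro w hw
    obtain ⟨x, rfl⟩ := htr w hw
    have hx : ReflTransGen R z (x * z * x⁻¹) := (h ▸ Subgroup.mem_top x : x ∈ M)
    clear hw
    generalize x * z * x⁻¹ = w at hx ⊢
    induction hx with
    | refl => exact h0
    | tail _ hb ih => exact hstep _ hb.1 _ hb.2.1 hb.2.2 ih

end Generic

variable {G : Type u} [Group G] [Finite G] {X : Type v} [Group X] [Finite X] {D : Set G} {D1 : Set X}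

/-- An automorphism of the commutator subgroup as a function on the group. -/
noncomputable def ext (φ : MulAut ↥(commutator G)) (x : G) : G :=
  open Classical in if h : x ∈ commutator G then (φ ⟨x, h⟩ : G) else 1

variable (φ : MulAut ↥(commutator G))

theorem ext_mem {x : G} (hx : x ∈ commutator G) : ext φ x ∈ commutator G := by
  rw [ext, dif_pos hx]; exact (φ ⟨x, hx⟩).2

theorem ext_coe (x : ↥(commutator G)) : ext φ (x : G) = φ x := by rw [ext, dif_pos x.2]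

theorem ext_mul {x y : G} (hx : x ∈ commutator G) (hy : y ∈ commutator G) :
    ext φ (x * y) = ext φ x * ext φ y := by
  rw [show x * y = ((⟨x, hx⟩ * ⟨y, hy⟩ : ↥(commutator G)) : G) from rfl, ext_coe, map_mul, Subgroup.coe_mul,
    ← ext_coe, ← ext_coe]

theorem ext_one : ext φ (1 : G) = 1 := by
  have := ext_coe φ 1
  rwa [map_one, Subgroup.coe_one] at this

theorem ext_inj {x y : G} (hx : x ∈ commutator G) (hy : y ∈ commutator G) (h : ext φ x = ext φ y) : x = y := by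
  rw [ext, dif_pos hx, ext, dif_pos hy] at h
  exact congrArg Subtype.val (φ.injective (Subtype.ext h))

theorem ext_inv {x : G} (hx : x ∈ commutator G) : ext φ x⁻¹ = (ext φ x)⁻¹ :=
  eq_inv_of_mul_eq_one_left (by rw [← ext_mul φ (inv_mem hx) hx, inv_mul_cancel, ext_one])

theorem ext_pow {x : G} (hx : x ∈ commutator G) (n : ℕ) : ext φ (x ^ n) = ext φ x ^ n := by
  induction n with
  | zero => simpa using ext_one φ
  | succ n ih => rw [pow_succ, pow_succ, ext_mul φ (pow_mem hx n) hx, ih]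

variable (V : Env D D1)
include V

theorem Env.ext_commute {x y : G} (hx : x ∈ commutator G) (hy : y ∈ commutator G) (h : Commute x y) :
    Commute (ext φ x) (ext φ y) := by
  unfold Commute SemiconjBy
  rw [← ext_mul φ hx hy, ← ext_mul φ hy hx, h.eq]

theorem Env.ext_el {g : G} (h : El g) : El (ext φ g) := by
  have hg := V.el_mem h
  refine ⟨by rw [← ext_pow φ hg, h.1, ext_one], fun e => h.2 (ext_inj φ hg (one_mem _) ?_)⟩
  rw [e, ext_one]

theorem Env.ext_pp {x : G} (h : x ∈ PP D) : ext φ x ∈ PP D := by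
  obtain ⟨hL, h2, h1, g, hg, hgx⟩ := V.pp_iff.1 h
  refine V.pp_iff.2 ⟨ext_mem φ hL, by rw [← ext_mul φ hL hL, h2, ext_one], fun e => h1 (ext_inj φ hL (one_mem _) ?_),
    ext φ g, V.ext_el φ hg, V.ext_commute φ (V.el_mem hg) hL hgx⟩
  rw [e, ext_one]

theorem Env.ext_tri {x y : G} (h : Tri D x y) : Tri D (ext φ x) (ext φ y) := by
  obtain ⟨hx, hy, hxy, hc, g, hg, h1, h2⟩ := h
  have hxL := V.pp_mem hx
  have hyL := V.pp_mem hy
  exact ⟨V.ext_pp φ hx, V.ext_pp φ hy, ext_mul φ hxL hyL ▸ V.ext_pp φ hxy, V.ext_commute φ hxL hyL hc,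
    ext φ g, V.ext_el φ hg, V.ext_commute φ (V.el_mem hg) hxL h1, V.ext_commute φ (V.el_mem hg) hyL h2⟩

/-- `u` is a factor of the image of the pair. -/
def At (D : Set G) (φ : MulAut ↥(commutator G)) (a b u : G) : Prop :=
  u ∈ D ∧ ∃ v ∈ Nb D u, ext φ (a * b) = u * v

theorem Env.at_two {a b c u u' : G} (ha : a ∈ D) (hb : b ∈ Nb D a) (hc : c ∈ Nb D a) (hbc : b ≠ c)
    (h1 : At D φ a b u) (h2 : At D φ a c u) (h3 : At D φ a b u') (h4 : At D φ a c u') : u = u' := by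
  by_contra hne
  obtain ⟨hu, v, hv, e1⟩ := h1
  obtain ⟨-, w, hw, e2⟩ := h2
  obtain ⟨hu', v', hv', e3⟩ := h3
  obtain ⟨-, w', hw', e4⟩ := h4
  have f1 : v = u' := ((V.pp_unique hu hv hu' hv' (e1.symm.trans e3)).resolve_left fun h => hne h.1).2
  have f2 : w = u' := ((V.pp_unique hu hw hu' hw' (e2.symm.trans e4)).resolve_left fun h => hne h.1).2
  subst f1 f2
  exact hbc (mul_left_cancel (ext_inj φ (V.mul_mem_L ha hb.1) (V.mul_mem_L ha hc.1) (e1.trans e2.symm)))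

theorem Env.at_exists {a b c : G} (ha : a ∈ D) (hb : b ∈ Nb D a) (hc : c ∈ Com D a b) :
    ∃ u, At D φ a b u ∧ At D φ a c u := by
  obtain ⟨u, hu, v, hv, w, hw, e1, e2⟩ := V.tri_inter (V.ext_tri φ (V.tri_of ha hb hc).1)
  exact ⟨u, ⟨hu, v, hv, e1⟩, hu, w, hw.1, e2⟩

/-- The common factor passes to the next triangle. -/
theorem Env.at_step {a b c c' u : G} (ha : a ∈ D) (hb : b ∈ Nb D a) (hc : c ∈ Com D a b)
    (hc' : c' ∈ Com D a b) (hcc : Commute c c') (h1 : At D φ a b u) (h2 : At D φ a c u) : At D φ a c' u := by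
  by_cases he : c' = c
  · rwa [he]
  obtain ⟨hu, v, hv, e1⟩ := h1
  obtain ⟨-, w, hw, e2⟩ := h2
  obtain ⟨p, hp, q, hq, q2, hq2, g1, g2⟩ := V.tri_inter (V.ext_tri φ (V.tri_of ha hb hc').1)
  obtain ⟨r, hr, s, hs, t, ht, g3, g4⟩ := V.tri_inter (V.ext_tri φ (V.tri_of ha hc.1 ⟨hc'.1, hc'.1.1, he, hcc⟩).1)
  rcases V.pp_unique hp hq hu hv (g1.symm.trans e1) with ⟨hpu, -⟩ | ⟨hpv, -⟩
  · exact ⟨hu, q2, hpu ▸ hq2.1, hpu ▸ g2⟩
  rcases V.pp_unique hr hs hu hw (g3.symm.trans e2) with ⟨hru, -⟩ | ⟨hrw, -⟩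
  · exact ⟨hu, t, hru ▸ ht.1, hru ▸ g4⟩
  exfalso
  have hbL := V.mul_mem_L ha hb.1
  have hcL := V.mul_mem_L ha hc.1.1
  have hne : v ≠ w := fun e => hc.2.2.1 (mul_left_cancel
    (ext_inj φ hcL hbL (by rw [e1, e2, e])))
  rcases V.pp_unique hp hq2.1 hr ht.1 (g2.symm.trans g4) with ⟨e, -⟩ | ⟨-, e⟩
  · exact hne (by rw [← hpv, ← hrw, e])
  · have k1 : ext φ (a * c') = ext φ (b * c) := by
      rw [g2, e, hpv, hrw, ← (V.tri_of ha hb hc).2, ext_mul φ hbL hcL, e1, e2,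
        show u * v * (u * w) = u * (v * u) * w by group, hv.2.2.symm.eq,
        show u * (u * v) * w = u * u * v * w by group, V.sq hu, one_mul]
    have k2 := ext_inj φ (V.mul_mem_L ha hc'.1.1) (V.mul_mem_L hb.1 hc.1.1) k1
    rcases V.pp_unique ha hc'.1 hb.1 hc.2 k2 with ⟨e, -⟩ | ⟨e, -⟩
    · exact hb.2.1 e.symm
    · exact hc.1.2.1 e.symm

/-- The common factor of one triangle lies in the images of all triangles on the edge. -/
theorem Env.at_all {a b c u : G} (ha : a ∈ D) (hb : b ∈ Nb D a) (hc : c ∈ Com D a b)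
    (h1 : At D φ a b u) (h2 : At D φ a c u) : ∀ c' ∈ Com D a b, At D φ a c' u := by
  obtain ⟨π, P⟩ := V.facts.pair_map ha hb
  obtain ⟨-, e, q₁, q₂, -, -, -, -, hmax, -⟩ := FischerPresented.Fi22Class.exists_frame
  rw [← FischerPresented.Fi22Class.centralizer_z] at hmax
  have mem : ∀ y ∈ Com D a b, y ∈ Subgroup.centralizer ({a, b} : Set G) := fun y hy =>
    Subgroup.mem_centralizer_iff.2 (by rintro t (rfl | rfl); exacts [hy.1.2.2.eq, hy.2.2.2.eq])
  obtain ⟨q, hq⟩ := FischerPresented.Fi22Class.mem_D.1 (P.mem ⟨c, mem c hc⟩ hc.1 hc.2)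
  obtain ⟨k, hk⟩ : ∃ k, k ∈ Nb D a ∩ Nb D b ∩ Nb D c := Set.nonempty_of_ncard_ne_zero
    (by rw [V.ctx.card_triangle ha hb hc.1 hc.2]; norm_num)
  have hkc : (⟨k, mem k hk.1⟩ : Subgroup.centralizer ({a, b} : Set G)) ≠ ⟨c, mem c hc⟩ :=
    fun h => hk.2.2.1 (congrArg Subtype.val h)
  have sp := spread (W := FischerPresented.Fi22Class.D) (z := FischerPresented.Fi22Class.z)
    (k := q⁻¹ * π ⟨k, mem k hk.1⟩ * q)
    (fun g w hw => by
      obtain ⟨g', rfl⟩ := FischerPresented.Fi22Class.mem_D.1 hw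
      exact FischerPresented.Fi22Class.mem_D.2 ⟨g * g', by group⟩)
    (fun w hw => FischerPresented.Fi22Class.mem_D.1 hw) (FischerPresented.Fi22Class.mem_D.2 ⟨1, by group⟩)
    (by
      obtain ⟨g', hg'⟩ := FischerPresented.Fi22Class.mem_D.1 (P.mem ⟨k, mem k hk.1⟩ hk.1.1 hk.1.2)
      exact FischerPresented.Fi22Class.mem_D.2 ⟨q⁻¹ * g', by rw [← hg']; group⟩)
    (fun h => hkc (P.inj V.facts ha hb hk.1.1 hk.1.2 hc.1 (by rw [← hq, ← h]; group)))
    (by
      have h' : Commute (π ⟨c, mem c hc⟩) (π ⟨k, mem k hk.1⟩) := (show Commute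
        (⟨c, mem c hc⟩ : Subgroup.centralizer ({a, b} : Set G)) ⟨k, mem k hk.1⟩ from Subtype.ext hk.2.2.2).map π
      have := (commute_conj_iff q⁻¹ _ _).2 h'
      rw [inv_inv, ← hq] at this
      rwa [show q⁻¹ * (q * FischerPresented.Fi22Class.z * q⁻¹) * q = FischerPresented.Fi22Class.z by group] at this)
    hmax
    (P := fun w => ∀ y (hy : y ∈ Com D a b), π ⟨y, mem y hy⟩ = q * w * q⁻¹ → At D φ a y u)
    (fun y hy h => by
      have e := P.inj V.facts ha hb (a := ⟨y, mem y hy⟩) (b := ⟨c, mem c hc⟩) hy.1 hy.2 hc.1 (h.trans hq)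
      rw [show y = c from congrArg Subtype.val e]; exact h2)
    (fun w hw w' hw' hcw hP y hy h => by
      obtain ⟨g', hg'⟩ := FischerPresented.Fi22Class.mem_D.1 hw
      obtain ⟨⟨x, hx⟩, hx1, hx2, hπ⟩ := P.lift (q * w * q⁻¹)
        (FischerPresented.Fi22Class.mem_D.2 ⟨q * g', by rw [← hg']; group⟩)
      refine V.at_step φ ha hb ⟨hx1, hx2⟩ hy ?_ h1 (hP x ⟨hx1, hx2⟩ hπ)
      exact P.comm V.facts (a := ⟨x, hx⟩) (b := ⟨y, mem y hy⟩) hx1.1 hy.1.1
        (by rw [hπ, h]; exact (commute_conj_iff q w w').2 hcw))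
  intro c' hc'
  obtain ⟨g', hg'⟩ := FischerPresented.Fi22Class.mem_D.1 (P.mem ⟨c', mem c' hc'⟩ hc'.1 hc'.2)
  exact sp (q⁻¹ * π ⟨c', mem c' hc'⟩ * q) (FischerPresented.Fi22Class.mem_D.2 ⟨q⁻¹ * g', by rw [← hg']; group⟩)
    c' hc' (by group)

/-- The image of a transposition: the factor common to the images of all its pairs. -/
theorem Env.exists_center {a : G} (ha : a ∈ D) : ∃ u, ∀ b ∈ Nb D a, At D φ a b u := by
  obtain ⟨f, hf, -⟩ := V.ctx.chart23 ha
  obtain ⟨b₀, hb₀⟩ := V.ctx.nb_nonempty ha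
  have one : ∀ {b : G}, b ∈ Nb D a → (Com D a b).Nonempty := fun {b} hb =>
    Set.nonempty_of_ncard_ne_zero (by
      show (Nb D a ∩ Nb D b).ncard ≠ 0
      rw [V.ctx.card_edge ha hb]; norm_num)
  obtain ⟨c₀, hc₀⟩ := one hb₀
  obtain ⟨u, hu1, hu2⟩ := V.at_exists φ ha hb₀ hc₀
  refine ⟨u, ?_⟩
  set Q : G → Prop := fun b => At D φ a b u ∧ ∀ c ∈ Com D a b, At D φ a c u with hQ
  have step : ∀ b ∈ Nb D a, Q b → ∀ b' ∈ Com D a b, Q b' := by
    intro b hb hQb b' hb'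
    exact ⟨hQb.2 b' hb', V.at_all φ ha hb'.1 ⟨hb, Nb.symm hb.1 hb'.2⟩ (hQb.2 b' hb') hQb.1⟩
  obtain ⟨Φ, hΦ⟩ := V.facts.model a ha
  have hgp : Cfsg.IsThreeTranspositionGroup D1 := V.ctx.low.group
  obtain ⟨f', hf'⟩ := V.ctx.chart a ha
  have hconn : (Cfsg.commutingGraph D1).Connected := by
    refine prim_connected hgp V.ctx.low.prim ⟨f' b₀, hf'.mem b₀ hb₀, f' c₀, hf'.mem c₀ hc₀.1,
      fun e => hc₀.2.2.1 (hf'.inj b₀ hb₀ c₀ hc₀.1 e).symm, (hf'.comm b₀ hb₀ c₀ hc₀.1).2 hc₀.2.2.2⟩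
  have key : ∀ p q : D1, (Cfsg.commutingGraph D1).Reachable p q →
      (∀ b ∈ Nb D a, f' b = (p : X) → Q b) → ∀ b ∈ Nb D a, f' b = (q : X) → Q b := by
    intro p q hpq
    obtain ⟨w⟩ := hpq
    induction w with
    | nil => exact id
    | @cons p r q hadj _ ih =>
      refine fun hp => ih fun b hb e => ?_
      obtain ⟨x, hx, hxe⟩ := hf'.lift p p.2
      obtain ⟨hne, hcm⟩ := hadj
      exact step x hx (hp x hx hxe) b ⟨hb, hb.1, fun h => hne (Subtype.ext (by rw [← hxe, ← e, h])),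
        (hf'.comm x hx b hb).1 (by rw [hxe, e]; exact hcm.elim id Commute.symm)⟩
  intro b hb
  refine (key ⟨f' b₀, hf'.mem b₀ hb₀⟩ ⟨f' b, hf'.mem b hb⟩ (hconn.preconnected _ _) (fun x hx e => ?_) b hb rfl).1
  rw [hf'.inj x hx b₀ hb₀ e]
  exact ⟨hu1, V.at_all φ ha hb₀ hc₀ hu1 hu2⟩

/-- The map of transpositions. -/
noncomputable def Env.move (a : G) : G :=
  open Classical in if ha : a ∈ D then (V.exists_center φ ha).choose else a

theorem Env.move_at {a b : G} (ha : a ∈ D) (hb : b ∈ Nb D a) : At D φ a b (V.move φ a) := by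
  rw [Env.move, dif_pos ha]
  exact (V.exists_center φ ha).choose_spec b hb

theorem Env.move_mem {a : G} (ha : a ∈ D) : V.move φ a ∈ D := by
  obtain ⟨b, hb⟩ := V.ctx.nb_nonempty ha
  exact (V.move_at φ ha hb).1

theorem Env.move_eq {a u : G} (ha : a ∈ D) (h : ∀ b ∈ Nb D a, At D φ a b u) : V.move φ a = u := by
  obtain ⟨b, hb⟩ := V.ctx.nb_nonempty ha
  obtain ⟨c, hc⟩ := Set.nonempty_of_ncard_ne_zero (s := Nb D a ∩ Nb D b) (by
    rw [V.ctx.card_edge ha hb]; norm_num)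
  exact V.at_two φ ha hb hc.1 hc.2.2.1.symm (V.move_at φ ha hb) (V.move_at φ ha hc.1) (h b hb) (h c hc.1)

theorem Env.at_symm {a b u : G} (hb : b ∈ Nb D a) (h : At D φ a b u) : At D φ b a u := by
  rw [At, ← hb.2.2.eq]; exact h

theorem Env.move_pair {a b : G} (ha : a ∈ D) (hb : b ∈ Nb D a) :
    V.move φ b ∈ Nb D (V.move φ a) ∧ ext φ (a * b) = V.move φ a * V.move φ b := by
  obtain ⟨hu, v, hv, e1⟩ := V.move_at φ ha hb
  obtain ⟨hu', v', hv', e2⟩ := V.at_symm φ (Nb.symm ha hb) (V.move_at φ hb.1 (Nb.symm ha hb))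
  rcases V.pp_unique hu hv hu' hv' (e1.symm.trans e2) with ⟨h, -⟩ | ⟨-, h⟩
  · exfalso
    obtain ⟨c, hc⟩ := Set.nonempty_of_ncard_ne_zero (s := Nb D a ∩ Nb D b) (by
      rw [V.ctx.card_edge ha hb]; norm_num)
    obtain ⟨-, w, hw, e3⟩ := V.move_at φ ha hc.1
    obtain ⟨-, t, ht, e4⟩ := V.move_at φ hb.1 hc.2
    rw [← h] at ht e4
    have k : ext φ (b * c) = v * w := by
      rw [← (V.tri_of ha hb hc).2, ext_mul φ (V.mul_mem_L ha hb.1) (V.mul_mem_L ha hc.1.1), e1, e3,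
        show V.move φ a * v * (V.move φ a * w) = V.move φ a * (v * V.move φ a) * w by group, hv.2.2.symm.eq,
        show V.move φ a * (V.move φ a * v) * w = V.move φ a * V.move φ a * v * w by group, V.sq hu, one_mul]
    have hvw : v ≠ w := fun e => hc.2.2.1 (mul_left_cancel (ext_inj φ (V.mul_mem_L ha hc.1.1)
      (V.mul_mem_L ha hb.1) (by rw [e1, e3, e])))
    have hpp := V.ext_pp φ (⟨b, hb.1, c, hc.2, rfl⟩ : b * c ∈ PP D)
    rw [k] at hpp
    have hcw : Commute v w := by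
      refine by_contra fun hn => ?_
      have h3 := TSet.cube V.tset hv.1 hw.1 hn
      have h2 := (V.pp_invol hpp).1
      rw [pow_succ, pow_two, h2, one_mul] at h3
      exact (V.pp_invol hpp).2 h3
    rcases V.pp_unique hu ht hv.1 ⟨hw.1, hvw.symm, hcw⟩ (e4.symm.trans k) with ⟨e, -⟩ | ⟨e, -⟩
    exacts [hv.2.1 e.symm, hw.2.1 e.symm]
  · exact ⟨h ▸ hv, by rw [e1, h]⟩

theorem Env.move_commute {a b : G} (ha : a ∈ D) (hb : b ∈ D) (h : Commute a b) :
    Commute (V.move φ a) (V.move φ b) := by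
  by_cases e : b = a
  · rw [e]
  · exact (V.move_pair φ ha ⟨hb, e, h⟩).1.2.2

theorem Env.move_inj {a b : G} (ha : a ∈ D) (hb : b ∈ D) (h : V.move φ a = V.move φ b) : a = b := by
  by_contra hne
  by_cases hc : Commute a b
  · exact (V.move_pair φ ha ⟨hb, Ne.symm hne, hc⟩).1.2.1 h.symm
  obtain ⟨s, h1, h2⟩ := V.ctx.exists_common ha hb hc
  have e1 := (V.move_pair φ ha h1).2
  have e2 := (V.move_pair φ hb h2).2
  rw [h] at e1
  exact hne (mul_right_cancel (ext_inj φ (V.mul_mem_L ha h1.1) (V.mul_mem_L hb h2.1) (e1.trans e2.symm)))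

theorem Env.move_nb {a : G} (ha : a ∈ D) : V.move φ '' Nb D a = Nb D (V.move φ a) := by
  refine Set.eq_of_subset_of_ncard_le (by rintro _ ⟨b, hb, rfl⟩; exact (V.move_pair φ ha hb).1) ?_
  rw [Set.InjOn.ncard_image fun x hx y hy => V.move_inj φ hx.1 hy.1, V.ctx.card_nb ha,
    V.ctx.card_nb (V.move_mem φ ha)]

/-- Conjugation passes through. -/
theorem Env.move_conj {a e : G} (ha : a ∈ D) (he : e ∈ D) :
    V.move φ (a * e * a⁻¹) = V.move φ a * V.move φ e * (V.move φ a)⁻¹ := by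
  by_cases hc : Commute a e
  · rw [hc.eq, mul_inv_cancel_right, (V.move_commute φ ha he hc).eq, mul_inv_cancel_right]
  obtain ⟨s, h1, h2⟩ := V.ctx.exists_common ha he hc
  obtain ⟨hp, hx⟩ := V.move_pair φ ha h1
  have hfs : Commute (V.move φ s) (V.move φ e) := V.move_commute φ h1.1 he h2.2.2.symm
  have hxL := V.mul_mem_L ha h1.1
  have e1 : a * e * a⁻¹ = a * s * e * (a * s)⁻¹ := by
    rw [mul_inv_rev, show a * s * e * (s⁻¹ * a⁻¹) = a * (s * e * s⁻¹) * a⁻¹ by group,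
      show s * e * s⁻¹ = e from mul_inv_eq_iff_eq_mul.2 h2.2.2.symm.eq]
  have e2 : V.move φ a * V.move φ e * (V.move φ a)⁻¹ = ext φ (a * s) * V.move φ e * (ext φ (a * s))⁻¹ := by
    rw [hx, mul_inv_rev, show ∀ p q r : G, p * q * r * (q⁻¹ * p⁻¹) = p * (q * r * q⁻¹) * p⁻¹ from
      fun p q r => by group, show V.move φ s * V.move φ e * (V.move φ s)⁻¹ = V.move φ e from
      mul_inv_eq_iff_eq_mul.2 hfs.eq]
  rw [e1, e2]
  set x := a * s with hxdef
  refine V.move_eq φ (V.conj_mem x he) fun b hb => ?_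
  have hb' : x⁻¹ * b * x ∈ Nb D e := by
    have := nb_conj V.ctx.group x⁻¹ hb
    rwa [inv_inv, show x⁻¹ * (x * e * x⁻¹) * x = e by group] at this
  obtain ⟨hp', hy⟩ := V.move_pair φ he hb'
  refine ⟨V.conj_mem _ (V.move_mem φ he), _, nb_conj V.ctx.group (ext φ x) hp', ?_⟩
  rw [show x * e * x⁻¹ * b = x * (e * (x⁻¹ * b * x)) * x⁻¹ by group,
    ext_mul φ (mul_mem hxL (V.mul_mem_L he hb'.1)) (inv_mem hxL), ext_mul φ hxL (V.mul_mem_L he hb'.1),
    ext_inv φ hxL, hy]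
  group

end Cfsg.Agent.FischerOut24
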