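import Cfsg.Prelude.Def_KGroupFacts
import Cfsg.Agent.Lib.FischerOut24.Recover
import Cfsg.Agent.Lib.FischerPresented.Out23Bound

/-!
Every automorphism of the subgroup of index two of a group of type M(24) is conjugation in the whole group.
-/

set_option autoImplicit false
set_option linter.unusedSectionVars false
set_option linter.style.haveILetI false
set_option maxRecDepth 100000

namespace Cfsg.Agent.FischerOut24

open Cfsg.Agent.Fischer
open Cfsg.Agent.Fischer.Factor
open Cfsg.Agent.FischerUnique24 (Ctx Com Hd)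

local notation "GX" => CosetCert.Setup.G CosetData.Fi23A.setup

universe u v

variable {G : Type u} [Group G] [Finite G] {X : Type v} [Group X] [Finite X] {D : Set G} {D1 : Set X}
variable (V : Env D D1)
include V

theorem Env.eq_one_of_fixes {g : G} (h : ∀ d ∈ D, g * d * g⁻¹ = d) : g = 1 := by
  have hm : g ∈ Subgroup.center G :=
    mem_center_of_commute_gen V.ctx.group.2.2 fun d hd => (mul_inv_eq_iff_eq_mul.1 (h d hd) : Commute g d)
  rwa [V.ctx.center, Subgroup.mem_bot] at hm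

/-- A map of the class respecting conjugation comes from an automorphism of the group. -/
theorem Env.exists_aut (f : G → G) (hm : Set.MapsTo f D D) (hi : Set.InjOn f D)
    (hf : ∀ a ∈ D, ∀ e ∈ D, f (a * e * a⁻¹) = f a * f e * (f a)⁻¹) :
    ∃ Φ : MulAut G, ∀ d ∈ D, Φ d = f d := by
  letI : MulAction G D :=
    { smul := fun g d => ⟨g * d * g⁻¹, V.conj_mem g d.2⟩
      one_smul := fun d => Subtype.ext (show (1 : G) * d * (1 : G)⁻¹ = d by group)
      mul_smul := fun g h d => Subtype.ext (show g * h * d * (g * h)⁻¹ = g * (h * d * h⁻¹) * g⁻¹ by group) }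
  set π : G →* Equiv.Perm D := MulAction.toPermHom G D with hπ
  have hπ_apply : ∀ (g : G) (d : D), (π g d : G) = g * d * g⁻¹ := fun g d => rfl
  have hinj : Function.Injective π := (injective_iff_map_eq_one π).2 fun g hg => V.eq_one_of_fixes fun d hd => by
    have := congrArg (fun σ : Equiv.Perm D => (σ ⟨d, hd⟩ : G)) hg
    simpa [hπ_apply] using this
  set σ : Equiv.Perm D := Equiv.ofBijective (fun d => (⟨f d, hm d.2⟩ : D)) (Finite.injective_iff_bijective.1
    fun p q h => Subtype.ext (hi p.2 q.2 (congrArg Subtype.val h))) with hσ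
  have hσ_apply : ∀ d : D, (σ d : G) = f d := fun d => rfl
  have key : ∀ d ∈ D, σ * π d * σ⁻¹ = π (f d) := by
    intro d hd
    refine Equiv.ext fun p => ?_
    obtain ⟨q, rfl⟩ := σ.surjective p
    refine Subtype.ext ?_
    rw [Equiv.Perm.mul_apply, Equiv.Perm.mul_apply, show σ⁻¹ (σ q) = q from σ.symm_apply_apply q, hσ_apply, hπ_apply, hπ_apply,
      hσ_apply, hf d hd q q.2]
  have hrange : ∀ g, σ * π g * σ⁻¹ ∈ π.range := by
    intro g
    have hle : (⊤ : Subgroup G) ≤ π.range.comap ((MulAut.conj σ).toMonoidHom.comp π) := by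
      rw [← V.ctx.group.2.2, Subgroup.closure_le]
      exact fun d hd => ⟨f d, (key d hd).symm⟩
    exact hle (Subgroup.mem_top g)
  set Φ₀ : G →* G := (MonoidHom.ofInjective hinj).symm.toMonoidHom.comp
    (((MulAut.conj σ).toMonoidHom.comp π).codRestrict π.range hrange) with hΦ₀
  have hπΦ : ∀ g, π (Φ₀ g) = σ * π g * σ⁻¹ := fun g =>
    congrArg Subtype.val ((MonoidHom.ofInjective hinj).apply_symm_apply ⟨_, hrange g⟩)
  have hΦi : Function.Injective Φ₀ := fun p q h => hinj (by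
    have := congrArg π h
    rw [hπΦ, hπΦ] at this
    exact mul_left_cancel (mul_right_cancel this))
  refine ⟨MulEquiv.ofBijective Φ₀ (Finite.injective_iff_bijective.1 hΦi), fun d hd => hinj ?_⟩
  show π (Φ₀ d) = _
  rw [hπΦ, key d hd]

/-- The automorphisms fixing a transposition act as inner ones on its centraliser. -/
theorem Env.exists_local {a : G} (ha : a ∈ D) (Φ : MulAut G) (hD : ∀ d ∈ D, Φ d ∈ D) (hfa : Φ a = a) :
    ∃ k, Commute k a ∧ ∀ y ∈ Nb D a, Φ y = k * y * k⁻¹ := by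
  obtain ⟨f, hf, hker⟩ := V.ctx.chart23 ha
  haveI : Finite GX := FischerPresented.Fi23.order_facts.1
  set H : Subgroup G := Hd D a with hH
  have hnb : ∀ y ∈ Nb D a, Φ y ∈ Nb D a := fun y hy =>
    ⟨hD y hy.1, fun e => hy.2.1 (Φ.injective (e.trans hfa.symm)), by
      have := hy.2.2.map Φ.toMonoidHom
      simpa [hfa] using this⟩
  have hle : H ≤ H.comap Φ.toMonoidHom := (Subgroup.closure_le _).2 fun y hy =>
    Subgroup.subset_closure (hnb y hy)
  let φH : H →* GX := MonoidHom.mk' (fun x => f x) fun x y => hf.map_mul x x.2 y y.2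
  have hs : Function.Surjective φH := fun z => by
    obtain ⟨x, hx, rfl⟩ := hf.surj z
    exact ⟨⟨x, hx⟩, rfl⟩
  let ΦH : H →* H := MonoidHom.mk' (fun x => ⟨Φ x, hle x.2⟩) fun x y => Subtype.ext (map_mul Φ (x : G) y)
  have hΦH : Function.Surjective ΦH := Finite.injective_iff_surjective.1 fun x y h =>
    Subtype.ext (Φ.injective (congrArg Subtype.val h))
  have hk : φH.ker ≤ (φH.comp ΦH).ker := fun x hx => by
    refine (hker _ (hle x.2)).2 ?_
    rcases (hker x x.2).1 hx with e | e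
    · exact Or.inl (by show Φ x = 1; rw [e, map_one])
    · exact Or.inr (by show Φ x = a; rw [e, hfa])
  let ψ : GX →* GX := φH.liftOfSurjective hs ⟨φH.comp ΦH, hk⟩
  have hψ : ∀ x : H, ψ (φH x) = φH (ΦH x) := fun x => φH.liftOfRightInverse_comp_apply _ _ _ x
  have hψs : Function.Surjective ψ := fun z => by
    obtain ⟨x, rfl⟩ := hs z
    obtain ⟨x', rfl⟩ := hΦH x
    exact ⟨φH x', hψ x'⟩
  let e : MulAut GX := MulEquiv.ofBijective ψ (Finite.surjective_iff_bijective.1 hψs)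
  have hout : Nat.card (MulAut GX ⧸ Cfsg.Inn GX) = 1 := FischerPresented.Out23.card_out
  rw [← Subgroup.index_eq_card, Subgroup.index_eq_one] at hout
  obtain ⟨q, hq⟩ : e ∈ Cfsg.Inn GX := hout ▸ Subgroup.mem_top e
  obtain ⟨k, hkH, rfl⟩ := hf.surj q
  refine ⟨k, commute_of_mem_closure_nb hkH |>.symm, fun y hy => ?_⟩
  have hyH : y ∈ H := Subgroup.subset_closure hy
  have hkka : k * a * k⁻¹ = a := mul_inv_eq_iff_eq_mul.2 (commute_of_mem_closure_nb hkH).symm.eq
  refine hf.inj _ (hnb y hy) _ (hkka ▸ nb_conj V.ctx.group k hy) ?_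
  have h1 : f (Φ y) = e (f y) := (hψ ⟨y, hyH⟩).symm
  rw [h1, ← hq, hf.map_mul _ (mul_mem hkH hyH) _ (inv_mem hkH), hf.map_mul _ hkH _ hyH, hf.map_inv hkH]
  rfl

theorem Env.fix_Hd {a : G} (Φ : MulAut G) (h : ∀ y ∈ Nb D a, Φ y = y) : ∀ x ∈ Hd D a, Φ x = x := fun x hx =>
  MonoidHom.eqOn_closure (f := Φ.toMonoidHom) (g := MonoidHom.id G) (fun y hy => h y hy) hx

/-- An automorphism keeping the class is inner. -/
theorem Env.inner (Φ : MulAut G) (hD : ∀ d ∈ D, Φ d ∈ D) : ∃ g : G, ∀ d ∈ D, Φ d = g * d * g⁻¹ := by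
  obtain ⟨a, ha, -⟩ := V.ctx.prim.2.1
  obtain ⟨g₁, hg₁⟩ := V.ctx.prim.1 (Φ a) (hD a ha) a ha
  set Φ₁ : MulAut G := MulAut.conj g₁ * Φ with hΦ₁
  have hD₁ : ∀ d ∈ D, Φ₁ d ∈ D := fun d hd => V.conj_mem g₁ (hD d hd)
  obtain ⟨k, hka, hk⟩ := V.exists_local ha Φ₁ hD₁ hg₁
  set Φ₂ : MulAut G := MulAut.conj k⁻¹ * Φ₁ with hΦ₂
  have h2a : Φ₂ a = a := by
    show k⁻¹ * Φ₁ a * k⁻¹⁻¹ = a
    rw [show Φ₁ a = a from hg₁, inv_inv, hka.inv_left.eq, mul_assoc, inv_mul_cancel, mul_one]
  have h2nb : ∀ y ∈ Nb D a, Φ₂ y = y := fun y hy => by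
    show k⁻¹ * Φ₁ y * k⁻¹⁻¹ = y
    rw [hk y hy]; group
  have h2H := V.fix_Hd Φ₂ h2nb
  have h2D : ∀ d ∈ D, Φ₂ d ∈ D := fun d hd => V.conj_mem k⁻¹ (hD₁ d hd)
  obtain ⟨e, he, hae⟩ := V.ctx.exists_far ha
  have hcase := V.ctx.twin_one hae ha he (h2D e he) fun y hy => by
    have h := (show Commute e y from hy.2.2.2).map Φ₂.toMonoidHom
    have : Commute (Φ₂ e) (Φ₂ y) := h
    rwa [h2nb y hy.1] at this
  obtain ⟨Φ₃, g₃, h3, h3e, h3a, h3nb⟩ : ∃ Φ₃ : MulAut G, ∃ g₃ : G, Φ₃ = MulAut.conj g₃ * Φ ∧ Φ₃ e = e ∧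
      Φ₃ a = a ∧ ∀ y ∈ Nb D a, Φ₃ y = y := by
    rcases hcase with h | h | h
    · exact absurd (Φ₂.injective (h.trans h2a.symm)) (not_commute_ne hae).symm
    · exact ⟨Φ₂, k⁻¹ * g₁, by rw [hΦ₂, hΦ₁, map_mul, mul_assoc], h, h2a, h2nb⟩
    · refine ⟨MulAut.conj a * Φ₂, a * (k⁻¹ * g₁), by rw [hΦ₂, hΦ₁, map_mul, map_mul, mul_assoc, mul_assoc], ?_, ?_, ?_⟩
      · show a * Φ₂ e * a⁻¹ = e
        rw [h, show a * (a * e * a) * a⁻¹ = (a * a) * e by group, V.sq ha, one_mul]
      · show a * Φ₂ a * a⁻¹ = a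
        rw [h2a, mul_inv_cancel_right]
      · intro y hy
        show a * Φ₂ y * a⁻¹ = y
        rw [h2nb y hy, hy.2.2.eq, mul_inv_cancel_right]
  have h3H := V.fix_Hd Φ₃ h3nb
  have hall : ∀ d ∈ D, Φ₃ d = d := by
    intro d hd
    by_cases hc : Commute a d
    · by_cases e : d = a
      · rw [e, h3a]
      · exact h3nb d ⟨hd, e, hc⟩
    · obtain ⟨g, hga, hge⟩ := V.ctx.trans_far ha he hae ha hd hc
      have hgH : g ∈ Hd D a := by
        show g ∈ Subgroup.closure (Nb D a)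
        exact V.facts.cent a ha (Subgroup.mem_centralizer_singleton_iff.2 (mul_inv_eq_iff_eq_mul.1 hga))
      rw [← hge, map_mul, map_mul, map_inv, h3e, h3H g hgH]
  refine ⟨g₃⁻¹, fun d hd => ?_⟩
  have := hall d hd
  rw [h3] at this
  have h' : g₃ * Φ d * g₃⁻¹ = d := this
  calc Φ d = g₃⁻¹ * (g₃ * Φ d * g₃⁻¹) * g₃⁻¹⁻¹ := by group
    _ = _ := by rw [h']

/-- The products of two generate the subgroup of index two. -/
theorem Env.pp_closure : Subgroup.closure (PP D) = commutator G := by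
  refine le_antisymm ((Subgroup.closure_le _).2 fun x hx => V.pp_mem hx) fun x hx => ?_
  have two : ∀ p ∈ D, ∀ q ∈ D, p * q ∈ Subgroup.closure (PP D) := by
    intro p hp q hq
    by_cases hc : Commute p q
    · by_cases e : q = p
      · rw [e, V.sq hp]; exact one_mem _
      · exact Subgroup.subset_closure ⟨p, hp, q, ⟨hq, e, hc⟩, rfl⟩
    · obtain ⟨s, h1, h2⟩ := V.ctx.exists_common hp hq hc
      rw [show p * q = (p * s) * (s * q) by rw [mul_assoc, ← mul_assoc s s, V.sq h1.1, one_mul]]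
      exact mul_mem (Subgroup.subset_closure ⟨p, hp, s, h1, rfl⟩)
        (Subgroup.subset_closure ⟨s, h1.1, q, Nb.symm hq h2 |>.imp_left (fun _ => hq), rfl⟩)
  obtain ⟨d₀, hd₀, -⟩ := V.ctx.prim.2.1
  have key : x ∈ Subgroup.closure (PP D) ∨ d₀ * x ∈ Subgroup.closure (PP D) := by
    have hx' : x ∈ Subgroup.closure D := V.ctx.group.2.2.symm ▸ Subgroup.mem_top x
    have step : ∀ p ∈ D, ∀ y, (y ∈ Subgroup.closure (PP D) ∨ d₀ * y ∈ Subgroup.closure (PP D)) →
        p * y ∈ Subgroup.closure (PP D) ∨ d₀ * (p * y) ∈ Subgroup.closure (PP D) := by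
      intro p hp y hy
      rcases hy with hy | hy
      · right; rw [← mul_assoc]; exact mul_mem (two d₀ hd₀ p hp) hy
      · left
        rw [show p * y = p * d₀ * (d₀ * y) by rw [mul_assoc, ← mul_assoc d₀ d₀, V.sq hd₀, one_mul]]
        exact mul_mem (two p hp d₀ hd₀) hy
    clear hx
    induction hx' using Subgroup.closure_induction_left with
    | one => exact Or.inl (one_mem _)
    | mul_left p hp y _ ih => exact step p hp y ih
    | inv_mul_cancel p hp y _ ih => rw [TSet.inv V.tset hp]; exact step p hp y ih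
  refine key.resolve_right fun h => ?_
  have : d₀ * x ∈ commutator G := (Subgroup.closure_le _).2 (fun x hx => V.pp_mem hx) h
  rw [Subgroup.mul_mem_iff_of_index_two V.idx] at this
  exact V.out d₀ hd₀ (this.2 hx)

/-- Every automorphism of the subgroup of index two is conjugation. -/
theorem Env.aut_conj (φ : MulAut ↥(commutator G)) :
    ∃ g : G, ∀ x : ↥(commutator G), (φ x : G) = g * x * g⁻¹ := by
  obtain ⟨Φ, hΦ⟩ := V.exists_aut (V.move φ) (fun d hd => V.move_mem φ hd) (fun p hp q hq => V.move_inj φ hp hq)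
    (fun a ha e he => V.move_conj φ ha he)
  obtain ⟨g, hg⟩ := V.inner Φ (fun d hd => hΦ d hd ▸ V.move_mem φ hd)
  refine ⟨g, fun x => ?_⟩
  rw [← ext_coe φ x]
  obtain ⟨x, hxL⟩ := x
  have hx := V.pp_closure.symm.le hxL
  show ext φ x = g * x * g⁻¹
  clear hxL
  induction hx using Subgroup.closure_induction with
  | mem p hp =>
    obtain ⟨a, ha, b, hb, rfl⟩ := hp
    rw [(V.move_pair φ ha hb).2, ← hΦ a ha, ← hΦ b hb.1, hg a ha, hg b hb.1]
    group
  | one => rw [ext_one]; group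
  | mul p q hp hq h1 h2 =>
    rw [ext_mul φ (V.pp_closure.le hp) (V.pp_closure.le hq), h1, h2]; group
  | inv p hp h1 => rw [ext_inv φ (V.pp_closure.le hp), h1]; group

/-- The outer automorphism group of the subgroup of index two has order two. -/
theorem Env.card_out : Nat.card (Cfsg.Out ↥(commutator G)) = 2 := by
  set L := commutator G
  let r : G →* MulAut ↥L := MulAut.conjNormal
  have hr : Function.Surjective r := fun φ => by
    obtain ⟨g, hg⟩ := V.aut_conj φ
    exact ⟨g, MulEquiv.ext fun x => Subtype.ext (hg x).symm⟩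
  have hi : Function.Injective r := (injective_iff_map_eq_one r).2 fun g hg => V.eq_one_of_fixes fun a ha => by
    have fix : ∀ x ∈ PP D, g * x * g⁻¹ = x := fun x hx =>
      congrArg Subtype.val (DFunLike.congr_fun hg (⟨x, V.pp_mem hx⟩ : ↥L))
    obtain ⟨b, hb⟩ := V.ctx.nb_nonempty ha
    obtain ⟨c, hc⟩ := Set.nonempty_of_ncard_ne_zero (s := Nb D a ∩ Nb D b) (by
      rw [V.ctx.card_edge ha hb]; norm_num)
    have two : ∀ y ∈ Nb D a, g * a * g⁻¹ = a ∨ g * a * g⁻¹ = y := fun y hy => by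
      have h := fix (a * y) ⟨a, ha, y, hy, rfl⟩
      rw [show g * (a * y) * g⁻¹ = g * a * g⁻¹ * (g * y * g⁻¹) by group] at h
      exact (V.pp_unique (V.conj_mem g ha) (nb_conj V.ctx.group g hy) ha hy h).imp And.left And.left
    rcases two b hb with h | h
    · exact h
    rcases two c hc.1 with h' | h'
    · exact h'
    · exact absurd (h'.symm.trans h) hc.2.2.1
  haveI : Finite (MulAut ↥L) := Finite.of_surjective r hr
  have hconj : (MulAut.conj : ↥L →* MulAut ↥L) = r.comp L.subtype :=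
    MonoidHom.ext fun x => MulEquiv.ext fun y => Subtype.ext rfl
  have hInn : Nat.card (Cfsg.Inn ↥L) = Nat.card ↥L := by
    show Nat.card (MulAut.conj : ↥L →* MulAut ↥L).range = _
    rw [hconj]
    exact (Nat.card_congr (MonoidHom.ofInjective (f := r.comp L.subtype) fun p q h => Subtype.ext (hi h)).toEquiv).symm
  have hA : Nat.card (MulAut ↥L) = Nat.card ↥L * 2 := by
    rw [← Nat.card_eq_of_bijective r ⟨hi, hr⟩, ← V.idx, Subgroup.card_mul_index]
  have h := Subgroup.card_eq_card_quotient_mul_card_subgroup (Cfsg.Inn ↥L)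
  rw [hA, hInn, mul_comm (Nat.card ↥L) 2] at h
  exact (Nat.eq_of_mul_eq_mul_right Nat.card_pos h).symm

end Cfsg.Agent.FischerOut24
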