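import Cfsg.Agent.Lib.FischerOut24.Main
import Cfsg.Agent.Lib.FischerUnique24.FourProduct
import Cfsg.Agent.Lib.FischerLocal24.Chart
import Cfsg.Agent.S5375

/-!
The outer automorphisms of the subgroup of index two in a group of type M(24).
-/

set_option autoImplicit false

namespace Cfsg.Agent.FischerOut24

open Cfsg.Agent.Fischer.Factor
open Cfsg.Agent.FischerUnique.InvolutionClasses (Fac)

universe u

/-- The outer automorphism group has order two. -/
theorem card_out_of_type {G : Type u} [Group G] [Finite G] {D : Set G} (hD : Cfsg.IsThreeTranspositionGroup D)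
    (hprim : Cfsg.IsPrimitiveUnderConj D) {d₀ : G} (hd₀ : d₀ ∈ D)
    (h3 : Cfsg.pCore 3 ↥(Subgroup.closure (Nb D d₀)) ≤ Subgroup.center ↥(Subgroup.closure (Nb D d₀)))
    (h2 : Cfsg.pCore 2 ↥(Subgroup.closure (Nb D d₀)) ≤ Subgroup.center ↥(Subgroup.closure (Nb D d₀)))
    (h24 : Cfsg.IsOfTypeM24 G D) : Nat.card (Cfsg.Out ↥(commutator G)) = 2 := by
  obtain ⟨h1, h2', h3', -, h5⟩ := Cfsg.Agent.S5375.result hD hprim h24
  have O : FischerLocal24.OrderData G D := ⟨h1, h2', h3', h5⟩
  have F := FischerInvol24.facts_of_type hD hprim hd₀ h3 h2 h24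
  obtain ⟨d', -, C⟩ := FischerUnique24.exists_ctx hD hprim h24
  have Q : FischerQuad.Env D := ⟨F, fun t ht => C.card_four F ht⟩
  have hfour : ∀ t, Fac D 4 t → ¬ 11 ∣ Nat.card (Subgroup.centralizer ({t} : Set G)) := by
    rintro t ⟨l, hn, hlen, hlD, hlc, hlp⟩
    match l, hlen with
    | [a, b, c, e], _ =>
      obtain ⟨π, R⟩ := Q.exists_frame (a := a) (b := b) (c := c) (e := e) (z := t) ⟨hn, hlD, hlc, hlp⟩
      obtain ⟨y, L⟩ := Q.exists_local R
      rw [Q.card_cent L]
      norm_num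
  exact (⟨F, C, by rw [FischerLocal24.commutator_eq_layer h1]; exact h1,
    fun d hd => FischerLocal24.not_mem_commutator hD hprim.1 O hd, hfour⟩ : Env D _).card_out

end Cfsg.Agent.FischerOut24
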