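import Cfsg.Agent.Lib.FischerQuad.Image
import Cfsg.Agent.Lib.FischerUnique24.Twin
import Cfsg.Agent.Lib.FischerUnique24.Eleven
import Cfsg.Agent.Lib.FischerUnique24.Count
import Cfsg.Agent.Lib.FischerInvol24.Classes

/-!
Products of two commuting transpositions inside the subgroup of index two of a group of type M(24).
-/

set_option autoImplicit false
set_option linter.unusedSectionVars false
set_option linter.style.haveILetI false
set_option maxRecDepth 100000

namespace Cfsg.Agent.FischerOut24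

open Cfsg.Agent.Fischer
open Cfsg.Agent.Fischer.Factor
open Cfsg.Agent.Fi22Local (GG)
open Cfsg.Agent.FischerUnique.InvolutionClasses (Fac)
open Cfsg.Agent.FischerInvol24 (Facts PairMap)
open Cfsg.Agent.FischerUnique24 (Ctx Com)

local notation "W" => FischerPresented.Fi22Class.D

universe u v

variable {G : Type u} [Group G] [Finite G] {X : Type v} [Group X] [Finite X]

/-- The setting: both descriptions, the subgroup of index two and the order prime to eleven. -/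
structure Env (D : Set G) (D1 : Set X) : Prop where
  facts : Facts D
  ctx : Ctx D D1
  idx : (commutator G).index = 2
  out : ∀ d ∈ D, d ∉ commutator G
  four : ∀ t, Fac D 4 t → ¬ 11 ∣ Nat.card (Subgroup.centralizer ({t} : Set G))

/-- Products of two commuting transpositions. -/
def PP (D : Set G) : Set G := {x | ∃ a ∈ D, ∃ b ∈ Nb D a, a * b = x}

/-- An element of order eleven. -/
def El (g : G) : Prop := g ^ 11 = 1 ∧ g ≠ 1

/-- Two pairs with a common member and all three members commuting. -/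
def Tri (D : Set G) (x y : G) : Prop :=
  x ∈ PP D ∧ y ∈ PP D ∧ x * y ∈ PP D ∧ Commute x y ∧ ∃ g, El g ∧ Commute g x ∧ Commute g y

variable {D : Set G} {D1 : Set X}

theorem Nb.symm {a b : G} (ha : a ∈ D) (h : b ∈ Nb D a) : a ∈ Nb D b := ⟨ha, h.2.1.symm, h.2.2.symm⟩

variable (V : Env D D1)
include V

theorem Env.tset : Cfsg.IsThreeTranspositionSet D := V.ctx.group.1

theorem Env.sq {a : G} (ha : a ∈ D) : a * a = 1 := TSet.sq V.tset ha

theorem Env.conj_mem (g : G) {a : G} (ha : a ∈ D) : g * a * g⁻¹ ∈ D := V.ctx.group.2.1 g a ha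

theorem Env.mul_mem_L {a b : G} (ha : a ∈ D) (hb : b ∈ D) : a * b ∈ commutator G := by
  rw [Subgroup.mul_mem_iff_of_index_two V.idx]
  exact iff_of_false (V.out a ha) (V.out b hb)

theorem Env.prod_mem_iff (l : List G) (h : ∀ a ∈ l, a ∈ D) : l.prod ∈ commutator G ↔ Even l.length := by
  induction l with
  | nil => simp
  | cons a t ih =>
    rw [List.prod_cons, Subgroup.mul_mem_iff_of_index_two V.idx, ih fun b hb => h b (by simp [hb]),
      List.length_cons, Nat.even_add_one]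
    simp [V.out a (h a (by simp))]

theorem Env.pp_mem {x : G} (h : x ∈ PP D) : x ∈ commutator G := by
  obtain ⟨a, ha, b, hb, rfl⟩ := h
  exact V.mul_mem_L ha hb.1

theorem Env.pp_unique {a b c e : G} (ha : a ∈ D) (hb : b ∈ Nb D a) (hc : c ∈ D) (he : e ∈ Nb D c)
    (h : a * b = c * e) : (a = c ∧ b = e) ∨ (a = e ∧ b = c) := by
  have hu := unique_factor V.tset V.facts.h4 V.facts.h6 2 (by norm_num) [a, b] [c, e]
    (by simpa using hb.2.1.symm) (by simpa using he.2.1.symm) rfl rfl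
    (by simpa [hb.1] using ha) (by simpa [he.1] using hc)
    (by simp [hb.2.2, hb.2.2.symm])
    (by simp [he.2.2, he.2.2.symm]) (by simpa using h)
  have h1 := hu a
  have h2 := hu b
  simp only [List.mem_cons, List.not_mem_nil, or_false, true_or, or_true, true_iff] at h1 h2
  rcases h1 with e1 | e1 <;> rcases h2 with e2 | e2
  · exact absurd (e2.trans e1.symm) hb.2.1
  · exact Or.inl ⟨e1, e2⟩
  · exact Or.inr ⟨e1, e2⟩
  · exact absurd (e2.trans e1.symm) hb.2.1

theorem Env.pp_conj (g : G) {x : G} (h : x ∈ PP D) : g * x * g⁻¹ ∈ PP D := by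
  obtain ⟨a, ha, b, hb, rfl⟩ := h
  exact ⟨_, V.conj_mem g ha, _, nb_conj V.ctx.group g hb, by group⟩

theorem Env.pp_fac {x : G} (h : x ∈ PP D) : Fac D 2 x := by
  obtain ⟨a, ha, b, hb, rfl⟩ := h
  exact ⟨[a, b], by simpa using hb.2.1.symm, rfl, by simpa [ha] using hb.1,
    by simp [hb.2.2, hb.2.2.symm], by simp⟩

theorem Env.pp_invol {x : G} (h : x ∈ PP D) : x * x = 1 ∧ x ≠ 1 := by
  refine ⟨?_, V.facts.not_fac_two_one (V.pp_fac h)⟩
  have := V.facts.orderOf_fac (V.pp_fac h) (by norm_num) (by norm_num)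
  exact mul_self_of_orderOf_two this

omit V in
theorem El.conj {g : G} (h : El g) (k : G) : El (k * g * k⁻¹) :=
  ⟨by rw [conj_pow, h.1]; group, fun e => h.2 (by simpa [mul_assoc] using congrArg (fun t => k⁻¹ * t * k) e)⟩

theorem Env.el_mem {g : G} (h : El g) : g ∈ commutator G := by
  have h2 : g * g ∈ commutator G := by rw [Subgroup.mul_mem_iff_of_index_two V.idx]
  have h12 : g = (g * g) ^ 6 := by
    rw [show (g * g) ^ 6 = g ^ 11 * g by rw [← pow_two, ← pow_mul, ← pow_succ], h.1, one_mul]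
  rw [h12]
  exact pow_mem h2 6

/-- Elements of order eleven at a commuting pair. -/
theorem Env.eleven_pair {a b : G} (ha : a ∈ D) (hb : b ∈ Nb D a) :
    ∃ g, El g ∧ Commute g a ∧ Commute g b := by
  obtain ⟨π, P⟩ := V.facts.pair_map ha hb
  haveI : Fact (Nat.Prime 11) := ⟨by norm_num⟩
  have hd : 11 ∣ Nat.card (Subgroup.centralizer ({a, b} : Set G)) :=
    dvd_trans (by rw [FischerPresented.Fi22.order_facts.2.1]; norm_num) (Subgroup.card_dvd_of_surjective π P.surj)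
  obtain ⟨⟨g, hgm⟩, hg⟩ := exists_prime_orderOf_dvd_card' 11 hd
  rw [Subgroup.orderOf_mk] at hg
  refine ⟨g, ⟨hg ▸ pow_orderOf_eq_one g, fun e => by simp [e] at hg⟩,
    (Subgroup.mem_centralizer_iff.1 hgm a (Or.inl rfl)).symm, (Subgroup.mem_centralizer_iff.1 hgm b (Or.inr rfl)).symm⟩

omit V in
theorem fixes_of_el {g : G} (hg : El g) {a : G} (h : Commute (g * g) a) : Commute g a := by
  have h12 : g = (g * g) ^ 6 := by
    rw [show (g * g) ^ 6 = g ^ 11 * g by rw [← pow_two, ← pow_mul, ← pow_succ], hg.1, one_mul]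
  rw [h12]
  exact h.pow_left 6

/-- An element of order eleven centralising the product centralises both factors. -/
theorem Env.el_fix {g a b : G} (hg : El g) (ha : a ∈ D) (hb : b ∈ Nb D a) (h : Commute g (a * b)) :
    Commute g a ∧ Commute g b := by
  have hga : g * a * g⁻¹ * (g * b * g⁻¹) = a * b := by
    rw [show g * a * g⁻¹ * (g * b * g⁻¹) = g * (a * b) * g⁻¹ by group, h.eq, mul_inv_cancel_right]
  rcases V.pp_unique (V.conj_mem g ha) (nb_conj V.ctx.group g hb) ha hb hga with ⟨e1, e2⟩ | ⟨e1, e2⟩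
  · exact ⟨mul_inv_eq_iff_eq_mul.1 e1, mul_inv_eq_iff_eq_mul.1 e2⟩
  · refine ⟨fixes_of_el hg (mul_inv_eq_iff_eq_mul.1 ?_), fixes_of_el hg (mul_inv_eq_iff_eq_mul.1 ?_)⟩
    · rw [show g * g * a * (g * g)⁻¹ = g * (g * a * g⁻¹) * g⁻¹ by group, e1, e2]
    · rw [show g * g * b * (g * g)⁻¹ = g * (g * b * g⁻¹) * g⁻¹ by group, e2, e1]

/-- Recognition of the products of two. -/
theorem Env.pp_iff {x : G} : x ∈ PP D ↔
    x ∈ commutator G ∧ x * x = 1 ∧ x ≠ 1 ∧ ∃ g, El g ∧ Commute g x := by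
  constructor
  · intro h
    obtain ⟨a, ha, b, hb, rfl⟩ := id h
    obtain ⟨g, hg, h1, h2⟩ := V.eleven_pair ha hb
    exact ⟨V.pp_mem h, (V.pp_invol h).1, (V.pp_invol h).2, g, hg, h1.mul_right h2⟩
  · rintro ⟨hL, hx2, hx1, g, hg, hgx⟩
    obtain ⟨d₀, hd₀, -⟩ := V.ctx.prim.2.1
    obtain ⟨m, h1, h4, hf⟩ := V.facts.exists_fac (orderOf_eq_prime (by rw [pow_two, hx2]) hx1) hd₀
    obtain ⟨l, hn, hlen, hD, hc, hp⟩ := id hf
    have hev : Even m := by rw [← hlen, ← V.prod_mem_iff l hD, hp]; exact hL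
    have hm : m = 2 ∨ m = 4 := by obtain ⟨k, rfl⟩ := hev; omega
    rcases hm with rfl | rfl
    · match l, hlen with
      | [a, b], _ =>
        simp only [List.prod_cons, List.prod_nil, mul_one] at hp
        exact ⟨a, hD a (by simp), b, ⟨hD b (by simp), fun e => by simp [e] at hn, hc a (by simp) b (by simp)⟩, hp⟩
    · exfalso
      refine V.four x hf ?_
      haveI : Fact (Nat.Prime 11) := ⟨by norm_num⟩
      have := orderOf_dvd_natCard (⟨g, Subgroup.mem_centralizer_singleton_iff.2 hgx.eq⟩ :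
        Subgroup.centralizer ({x} : Set G))
      rwa [Subgroup.orderOf_mk, orderOf_eq_prime hg.1 hg.2] at this

/-- Elements of order eleven at a commuting triple. -/
theorem Env.eleven_triple {a b c : G} (ha : a ∈ D) (hb : b ∈ Nb D a) (hc : c ∈ Nb D a ∩ Nb D b) :
    ∃ g, El g ∧ Commute g a ∧ Commute g b ∧ Commute g c := by
  obtain ⟨g, hg, hga, hgb⟩ := V.eleven_pair ha hb
  haveI : Fact (Nat.Prime 11) := ⟨by norm_num⟩
  have hB : IsPGroup 11 (Subgroup.zpowers g) := IsPGroup.of_card (n := 1) (by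
    rw [Nat.card_zpowers, orderOf_eq_prime hg.1 hg.2, pow_one])
  have hcom : ∀ h ∈ Subgroup.zpowers g, Commute h a ∧ Commute h b := fun h hh => by
    obtain ⟨i, rfl⟩ := Subgroup.mem_zpowers_iff.1 hh
    exact ⟨hga.zpow_left i, hgb.zpow_left i⟩
  have hmod := FischerUnique24.card_fixed_mod _ hB (Nb D a ∩ Nb D b) fun h hh y hy => by
    obtain ⟨h1, h2⟩ := hcom h hh
    have e1 := nb_conj V.ctx.group h hy.1
    have e2 := nb_conj V.ctx.group h hy.2
    rw [h1.eq, mul_inv_cancel_right] at e1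
    rw [h2.eq, mul_inv_cancel_right] at e2
    exact ⟨e1, e2⟩
  rw [V.ctx.card_edge ha hb] at hmod
  obtain ⟨c₀, hc₀, hfix⟩ := Set.nonempty_of_ncard_ne_zero (s := {y | y ∈ Nb D a ∩ Nb D b ∧
      ∀ h ∈ Subgroup.zpowers g, Commute h y}) (fun e => by rw [e] at hmod; exact absurd hmod (by decide))
  obtain ⟨π, P⟩ := V.facts.pair_map ha hb
  have mem : ∀ y ∈ Nb D a ∩ Nb D b, y ∈ Subgroup.centralizer ({a, b} : Set G) := fun y hy =>
    Subgroup.mem_centralizer_iff.2 (by rintro t (rfl | rfl); exacts [hy.1.2.2.eq, hy.2.2.2.eq])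
  obtain ⟨q₀, hq₀⟩ := FischerPresented.Fi22Class.mem_D.1 (P.mem ⟨c₀, mem c₀ hc₀⟩ hc₀.1 hc₀.2)
  obtain ⟨q, hq⟩ := FischerPresented.Fi22Class.mem_D.1 (P.mem ⟨c, mem c hc⟩ hc.1 hc.2)
  obtain ⟨⟨h, hh⟩, hπ⟩ := P.surj (q * q₀⁻¹)
  have hfa : h * a * h⁻¹ = a := mul_inv_eq_iff_eq_mul.2 (Subgroup.mem_centralizer_iff.1 hh a (Or.inl rfl)).symm
  have hfb : h * b * h⁻¹ = b := mul_inv_eq_iff_eq_mul.2 (Subgroup.mem_centralizer_iff.1 hh b (Or.inr rfl)).symm
  have h1 : h * c₀ * h⁻¹ ∈ Nb D a := hfa ▸ nb_conj V.ctx.group h hc₀.1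
  have h2 : h * c₀ * h⁻¹ ∈ Nb D b := hfb ▸ nb_conj V.ctx.group h hc₀.2
  have heq : h * c₀ * h⁻¹ = c := congrArg Subtype.val
    (P.inj V.facts ha hb (a := ⟨h, hh⟩ * ⟨c₀, mem c₀ hc₀⟩ * ⟨h, hh⟩⁻¹) (b := ⟨c, mem c hc⟩) h1 h2 hc.1
      (by rw [map_mul, map_mul, map_inv, hπ, ← hq₀, ← hq]; group))
  have hg0 := hfix g (Subgroup.mem_zpowers g)
  refine ⟨h * g * h⁻¹, hg.conj h, ?_, ?_, ?_⟩
  · rw [← hfa]; exact (commute_conj_iff h g a).2 hga
  · rw [← hfb]; exact (commute_conj_iff h g b).2 hgb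
  · rw [← heq]; exact (commute_conj_iff h g c₀).2 hg0

/-- No element of order eleven fixes a non-commuting pair. -/
theorem Env.no_eleven {g a c : G} (hg : El g) (ha : a ∈ D) (hc : c ∈ D) (hac : ¬ Commute a c)
    (hga : Commute g a) (hgc : Commute g c) : False := by
  haveI : Fact (Nat.Prime 11) := ⟨by norm_num⟩
  have hB : IsPGroup 11 (Subgroup.zpowers g) := IsPGroup.of_card (n := 1) (by
    rw [Nat.card_zpowers, orderOf_eq_prime hg.1 hg.2, pow_one])
  have hle : Subgroup.zpowers g ≤ Subgroup.centralizer ({a, c} : Set G) := Subgroup.zpowers_le.2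
    (Subgroup.mem_centralizer_iff.2 (by rintro t (rfl | rfl); exacts [hga.symm.eq, hgc.symm.eq]))
  have hmod := FischerUnique24.card_fixed_mod _ hB (Com D a c) fun h hh y hy => V.ctx.conj_com (hle hh) hy
  rw [V.ctx.card_com hac ha hc] at hmod
  obtain ⟨s, hs, hfix⟩ := Set.nonempty_of_ncard_ne_zero (s := {y | y ∈ Com D a c ∧
      ∀ h ∈ Subgroup.zpowers g, Commute h y}) (fun e => by rw [e] at hmod; exact absurd hmod (by decide))
  have hgs := hfix g (Subgroup.mem_zpowers g)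
  have hm : g ∈ Subgroup.centralizer ({a, c, s} : Set G) :=
    Subgroup.mem_centralizer_iff.2 (by rintro t (rfl | rfl | rfl); exacts [hga.symm.eq, hgc.symm.eq, hgs.symm.eq])
  have := orderOf_dvd_natCard (⟨g, hm⟩ : Subgroup.centralizer ({a, c, s} : Set G))
  rw [Subgroup.orderOf_mk, orderOf_eq_prime hg.1 hg.2, (V.ctx.triple_le hac ha hc hs).2] at this
  norm_num at this

/-- A commuting triangle of transpositions gives two pairs in relation. -/
theorem Env.tri_of {a b c : G} (ha : a ∈ D) (hb : b ∈ Nb D a) (hc : c ∈ Nb D a ∩ Nb D b) :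
    Tri D (a * b) (a * c) ∧ a * b * (a * c) = b * c := by
  have e : a * b * (a * c) = b * c := by
    rw [show a * b * (a * c) = a * (b * a) * c by group, hb.2.2.symm.eq, ← mul_assoc a a b, V.sq ha, one_mul]
  obtain ⟨g, hg, h1, h2, h3⟩ := V.eleven_triple ha hb hc
  have c1 : Commute a b := hb.2.2
  have c2 : Commute a c := hc.1.2.2
  have c3 : Commute b c := hc.2.2.2
  exact ⟨⟨⟨a, ha, b, hb, rfl⟩, ⟨a, ha, c, hc.1, rfl⟩, e.symm ▸ ⟨b, hb.1, c, hc.2, rfl⟩,
    ((Commute.refl a).mul_right c2).mul_left (c1.symm.mul_right c3), g, hg, h1.mul_right h2, h1.mul_right h3⟩, e⟩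

/-- Two pairs in relation come from a triangle. -/
theorem Env.tri_inter {x y : G} (h : Tri D x y) :
    ∃ u ∈ D, ∃ v ∈ Nb D u, ∃ w ∈ Nb D u ∩ Nb D v, x = u * v ∧ y = u * w := by
  obtain ⟨hx, hy, hxy, hc, g, hg, hgx, hgy⟩ := h
  obtain ⟨a, ha, b, hb, rfl⟩ := hx
  obtain ⟨c, hcD, e, he, rfl⟩ := hy
  obtain ⟨ga, gb⟩ := V.el_fix hg ha hb hgx
  obtain ⟨gc, ge⟩ := V.el_fix hg hcD he hgy
  have cm : ∀ {p q : G}, p ∈ D → q ∈ D → Commute g p → Commute g q → Commute p q := fun {p q} hp hq h1 h2 =>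
    by_contra fun hn => V.no_eleven hg hp hq hn h1 h2
  have fin : ∀ u v w : G, u ∈ D → v ∈ Nb D u → w ∈ Nb D u → Commute v w → u * v * (u * w) ≠ 1 →
      w ∈ Nb D u ∩ Nb D v := by
    intro u v w hu hv hw hvw hne
    refine ⟨hw, hw.1, ?_, hvw⟩
    rintro rfl
    exact hne (V.pp_invol ⟨u, hu, w, hv, rfl⟩).1
  have hne := (V.pp_invol hxy).2
  by_cases h1 : a = c
  · subst h1
    exact ⟨a, ha, b, hb, e, fin a b e ha hb he (cm hb.1 he.1 gb ge) hne, rfl, rfl⟩
  by_cases h2 : a = e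
  · subst h2
    rw [he.2.2.eq] at hne
    exact ⟨a, ha, b, hb, c, fin a b c ha hb (Nb.symm hcD he) (cm hb.1 hcD gb gc) hne, rfl, he.2.2.eq⟩
  by_cases h3 : b = c
  · subst h3
    rw [hb.2.2.eq] at hne
    exact ⟨b, hb.1, a, Nb.symm ha hb, e, fin b a e hb.1 (Nb.symm ha hb) he (cm ha he.1 ga ge) hne, hb.2.2.eq, rfl⟩
  by_cases h4 : b = e
  · subst h4
    rw [hb.2.2.eq, he.2.2.eq] at hne
    exact ⟨b, hb.1, a, Nb.symm ha hb, c, fin b a c hb.1 (Nb.symm ha hb) (Nb.symm hcD he) (cm ha hcD ga gc) hne,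
      hb.2.2.eq, he.2.2.eq⟩
  exfalso
  refine V.facts.not_fac_two_four (V.pp_fac hxy) ⟨[a, b, c, e], ?_, rfl, ?_, ?_, by simp [mul_assoc]⟩
  · simp [hb.2.1.symm, he.2.1.symm, h1, h2, h3, h4]
  · simp [ha, hb.1, hcD, he.1]
  · have k1 := cm ha hcD ga gc
    have k2 := cm ha he.1 ga ge
    have k3 := cm hb.1 hcD gb gc
    have k4 := cm hb.1 he.1 gb ge
    simp [hb.2.2, hb.2.2.symm, he.2.2, he.2.2.symm, k1, k1.symm, k2, k2.symm, k3, k3.symm, k4, k4.symm]

end Cfsg.Agent.FischerOut24
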